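import Groth.Agent.Lib.ConormalDepth45.Rees
import Groth.Prelude.Def_Found
import Mathlib.RingTheory.KrullDimension.Basic

/-!
# Heights in the associated graded ring and the fibre cone
-/

universe u

open Polynomial

namespace Groth.Agent.Lib.ConormalDepth45

theorem isUniversallyCatenary_quot {R : Type u} [CommRing R]
    (h : CAlg.IsUniversallyCatenary R) (I : Ideal R) : CAlg.IsUniversallyCatenary (R ⧸ I) := by
  have := h.1
  refine ⟨inferInstance, fun S _ _ hft => ?_⟩
  let := ((algebraMap (R ⧸ I) S).comp (Ideal.Quotient.mk I)).toAlgebra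
  have : IsScalarTower R (R ⧸ I) S := IsScalarTower.of_algebraMap_eq fun _ => rfl
  exact h.2 S (Algebra.FiniteType.trans (inferInstanceAs (Algebra.FiniteType R (R ⧸ I))) hft)

theorem exists_nat {A : Type u} [CommRing A] [IsNoetherianRing A] (Q : Ideal A) [Q.IsPrime] :
    ∃ a : ℕ, Q.height = (a : ℕ∞) := by
  obtain ⟨a, ha⟩ := ENat.ne_top_iff_exists.1 (Ideal.height_ne_top (I := Q) (Ideal.IsPrime.ne_top ‹_›))
  exact ⟨a, ha.symm⟩

theorem eq_add_of_cardinal {a b : ℕ} {s t : Cardinal.{u}}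
    (h : ((a : ℕ∞) : Cardinal.{u}) + s = ((b : ℕ∞) : Cardinal.{u}) + t) {m : ℕ} (hs : s = m) :
    ∃ n : ℕ, t = n ∧ a + m = b + n := by
  rw [hs, Cardinal.ofENat_nat, Cardinal.ofENat_nat] at h
  have h1 : t ≤ ((a + m : ℕ) : Cardinal.{u}) := by rw [Nat.cast_add, h]; exact le_add_self
  obtain ⟨n, rfl⟩ := Cardinal.lt_aleph0.1 (h1.trans_lt (Cardinal.natCast_lt_aleph0 (n := a + m)))
  exact ⟨n, rfl, by exact_mod_cast h⟩

/-- The transcendence degree of a domain with a retraction is at most the dimension of a special fibre. -/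
theorem trdeg_le_of_retract {A : Type u} [CommRing A] [IsDomain A]
    (huc : CAlg.IsUniversallyCatenary A) (D : Type u) [CommRing D] [IsDomain D] [Algebra A D]
    [FaithfulSMul A D] [Algebra.FiniteType A D] (ψ : D →+* A) (hψ : ∀ a, ψ (algebraMap A D a) = a)
    (p : Ideal A) [p.IsPrime] :
    ∃ t : ℕ, Algebra.trdeg A D = (t : Cardinal.{u}) ∧
      (t : WithBot ℕ∞) ≤ ringKrullDim (D ⧸ p.map (algebraMap A D)) := by
  have : IsNoetherianRing A := huc.1
  have : IsNoetherianRing D := Algebra.FiniteType.isNoetherianRing A D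
  let V : Ideal D := p.comap ψ
  have : V.IsPrime := Ideal.IsPrime.comap ψ
  have : V.LiesOver p := ⟨by
    ext a
    show a ∈ p ↔ ψ (algebraMap A D a) ∈ p
    rw [hψ]⟩
  have heq := Groth.Agent.S0555.result A huc D p V
  have halg : Algebra.trdeg (A ⧸ p) (D ⧸ V) = ((0 : ℕ) : Cardinal.{u}) := by
    have : Algebra.IsAlgebraic (A ⧸ p) (D ⧸ V) := ⟨fun z => by
      obtain ⟨f, rfl⟩ := Ideal.Quotient.mk_surjective z
      have e : Ideal.Quotient.mk V f = algebraMap (A ⧸ p) (D ⧸ V) (Ideal.Quotient.mk p (ψ f)) := by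
        refine (Ideal.Quotient.mk_eq_mk_iff_sub_mem _ _).2 ?_
        show ψ (f - algebraMap A D (ψ f)) ∈ p
        rw [map_sub, hψ, sub_self]
        exact zero_mem _
      rw [e]
      exact isAlgebraic_algebraMap _⟩
    rw [trdeg_eq_zero, Nat.cast_zero]
  obtain ⟨a, ha⟩ := exists_nat V
  obtain ⟨b, hb⟩ := exists_nat p
  rw [ha, hb] at heq
  obtain ⟨t, ht, hab⟩ := eq_add_of_cardinal heq halg
  refine ⟨t, ht, ?_⟩
  have hh := Ideal.height_le_height_add_of_liesOver p V
  rw [ha, hb, show a = b + t by omega, Nat.cast_add,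
    ENat.add_le_add_iff_left (ENat.natCast_ne_top b)] at hh
  have hpV : p.map (algebraMap A D) ≤ V := Ideal.map_le_iff_le_comap.2 (Ideal.over_def V p).le
  refine le_trans ?_ (Ideal.height_le_ringKrullDim_of_ne_top
    (Ideal.isPrime_map_quotientMk_of_isPrime hpV).ne_top)
  exact WithBot.coe_le_coe.2 hh

theorem krull_quot_le (T D : Type u) [CommRing T] [CommRing D] (f : T →+* D)
    (hf : Function.Surjective f) (m : Ideal T) (n : Ideal D) (h : m ≤ n.comap f) :
    ringKrullDim (D ⧸ n) ≤ ringKrullDim (T ⧸ m) :=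
  ringKrullDim_le_of_surjective (Ideal.quotientMap n f h) <| by
    intro z
    obtain ⟨z, rfl⟩ := Ideal.Quotient.mk_surjective z
    obtain ⟨z, rfl⟩ := hf z
    exact ⟨Ideal.Quotient.mk _ z, rfl⟩

variable {R : Type u} [CommRing R] [IsDomain R] [IsLocalRing R] [IsNoetherianRing R] {I : Ideal R}

omit [IsNoetherianRing R] in
theorem trdeg_le_abstract (huc : CAlg.IsUniversallyCatenary R) (T : Type u) [CommRing T] [Algebra R T]
    [Algebra.FiniteType R T] (Q P' : Ideal T) [P'.IsPrime] (hle : P' ≤ Q)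
    (q : Ideal R) [q.IsPrime] [Q.LiesOver q] [P'.LiesOver q]
    (ψ0 : T →+* R) (hψ0 : ∀ r, ψ0 (algebraMap R T r) = r) (hP : ∀ f ∈ P', ψ0 f ∈ q) :
    ∃ t : ℕ, Algebra.trdeg (R ⧸ q) (T ⧸ Q) = (t : Cardinal.{u}) ∧
      (t : WithBot ℕ∞) ≤ ringKrullDim (T ⧸ (IsLocalRing.maximalIdeal R).map (algebraMap R T)) := by
  have hqm : q ≤ IsLocalRing.maximalIdeal R :=
    IsLocalRing.le_maximalIdeal (inferInstance : q.IsPrime).ne_top
  let ψ : T ⧸ P' →+* R ⧸ q := Ideal.Quotient.lift P' ((Ideal.Quotient.mk q).comp ψ0)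
    fun f hf => Ideal.Quotient.eq_zero_iff_mem.2 (hP f hf)
  let p : Ideal (R ⧸ q) := (IsLocalRing.maximalIdeal R).map (Ideal.Quotient.mk q)
  have hp : p.IsPrime := Ideal.isPrime_map_quotientMk_of_isPrime hqm
  have : FaithfulSMul (R ⧸ q) (T ⧸ P') := (faithfulSMul_iff_algebraMap_injective _ _).2 <| by
    rw [injective_iff_map_eq_zero]
    intro r hr
    obtain ⟨r, rfl⟩ := Ideal.Quotient.mk_surjective r
    refine Ideal.Quotient.eq_zero_iff_mem.2 ?_
    rw [Ideal.over_def P' q]
    show algebraMap R T r ∈ P'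
    exact Ideal.Quotient.eq_zero_iff_mem.1 hr
  have : Algebra.FiniteType (R ⧸ q) (T ⧸ P') :=
    Algebra.FiniteType.of_restrictScalars_finiteType R _ _
  have hψ : ∀ r, ψ (algebraMap (R ⧸ q) (T ⧸ P') r) = r := fun r => by
    obtain ⟨r, rfl⟩ := Ideal.Quotient.mk_surjective r
    show Ideal.Quotient.mk q (ψ0 (algebraMap R T r)) = _
    rw [hψ0]
  obtain ⟨t', ht', hdim⟩ := trdeg_le_of_retract (isUniversallyCatenary_quot huc q) (T ⧸ P') ψ hψ p
  -- compare with `T/Q`
  let φ : (T ⧸ P') →ₐ[R ⧸ q] T ⧸ Q :=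
    { Ideal.Quotient.factor hle with
      commutes' := fun r => by
        obtain ⟨r, rfl⟩ := Ideal.Quotient.mk_surjective r
        rfl }
  have hle' : Algebra.trdeg (R ⧸ q) (T ⧸ Q) ≤ (t' : Cardinal.{u}) :=
    ht' ▸ trdeg_le_of_surjective φ (Ideal.Quotient.factor_surjective hle)
  obtain ⟨t, ht⟩ := Cardinal.lt_aleph0.1 (hle'.trans_lt (Cardinal.natCast_lt_aleph0 (n := t')))
  refine ⟨t, ht, ?_⟩
  rw [ht, Nat.cast_le] at hle'
  have hmT : (IsLocalRing.maximalIdeal R).map (algebraMap R T) ≤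
      (p.map (algebraMap (R ⧸ q) (T ⧸ P'))).comap (Ideal.Quotient.mk P') :=
    Ideal.map_le_iff_le_comap.2 fun r hr =>
      Ideal.mem_map_of_mem (algebraMap (R ⧸ q) (T ⧸ P')) (Ideal.mem_map_of_mem (Ideal.Quotient.mk q) hr)
  exact le_trans (le_trans (by exact_mod_cast hle') hdim)
    (krull_quot_le T (T ⧸ P') (Ideal.Quotient.mk P') Ideal.Quotient.mk_surjective _ _ hmT)

/-- The transcendence degree of a homogeneous prime quotient is at most the dimension of the fibre cone. -/
theorem trdeg_le_fibre (huc : CAlg.IsUniversallyCatenary R) (Q : Ideal (reesAlgebra I)) [Q.IsPrime]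
    (q : Ideal R) [q.IsPrime] [Q.LiesOver q] :
    ∃ t : ℕ, Algebra.trdeg (R ⧸ q) (reesAlgebra I ⧸ Q) = (t : Cardinal.{u}) ∧
      (t : WithBot ℕ∞) ≤ ringKrullDim (reesAlgebra I ⧸
        (IsLocalRing.maximalIdeal R).map (algebraMap R (reesAlgebra I))) := by
  have : (core Q).LiesOver q := ⟨by
    rw [Ideal.under_def, core_comap]
    exact Ideal.over_def Q q⟩
  exact trdeg_le_abstract huc (reesAlgebra I) Q (core Q) (core_le Q) q
    (Polynomial.constantCoeff.comp (reesAlgebra I).val.toRingHom) (fun r => coeff_C_zero)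
    fun f hf => by rw [Ideal.over_def Q q]; exact coeff_zero_mem Q hf

/-- The height bound in the associated graded ring. -/
theorem height_le (huc : CAlg.IsUniversallyCatenary R)
    (P : PrimeSpectrum (reesAlgebra I ⧸ I.map (algebraMap R (reesAlgebra I)))) :
    ((P.asIdeal.comap (algebraMap R (reesAlgebra I ⧸ I.map (algebraMap R (reesAlgebra I))))).height : WithBot ℕ∞) ≤
      (Ideal.height (R := reesAlgebra I ⧸ I.map (algebraMap R (reesAlgebra I))) P.asIdeal : WithBot ℕ∞) + ringKrullDim (reesAlgebra I ⧸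
        (IsLocalRing.maximalIdeal R).map (algebraMap R (reesAlgebra I))) := by
  let T := reesAlgebra I
  let IT : Ideal T := I.map (algebraMap R T)
  let Q : Ideal T := P.asIdeal.comap (Ideal.Quotient.mk IT)
  let q : Ideal R := Q.comap (algebraMap R T)
  haveI hq : q.IsPrime := Ideal.IsPrime.comap _
  have hITQ : IT ≤ Q := Ideal.mk_ker.symm.le.trans (Ideal.comap_mono bot_le)
  have hPQ : Q.map (Ideal.Quotient.mk IT) = P.asIdeal :=
    Ideal.map_comap_of_surjective _ Ideal.Quotient.mk_surjective P.asIdeal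
  show ((q.height : ℕ∞) : WithBot ℕ∞) ≤ _
  haveI : FaithfulSMul R T := (faithfulSMul_iff_algebraMap_injective R T).2 fun r r' h =>
    C_injective (congrArg Subtype.val h)
  obtain ⟨b, hb⟩ := exists_nat q
  obtain ⟨Q', hQ', hle, hQ'q, e, hstep⟩ : ∃ (Q' : Ideal T) (_ : Q'.IsPrime), Q' ≤ Q ∧
      Q'.comap (algebraMap R T) = q ∧ ∃ e : ℕ, Q'.height ≤ (Ideal.height (R := reesAlgebra I ⧸ I.map (algebraMap R (reesAlgebra I))) P.asIdeal) + e ∧
        (e : Cardinal.{u}) ≤ Algebra.trdeg R T := by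
    by_cases hI : I = ⊥
    · refine ⟨Q, inferInstance, le_rfl, rfl, 0, ?_, by simp⟩
      have h := Ideal.height_le_height_add_spanFinrank_of_le hITQ
      have h0 : IT = ⊥ := by simp [IT, hI]
      have hs : IT.spanFinrank = 0 := by rw [h0]; exact Submodule.spanFinrank_bot
      rw [hPQ, hs] at h
      exact h
    · obtain ⟨Q', hQ', hle, hQ'q, a, ha, haQ⟩ := exists_below Q hI
        ((Ideal.map_le_iff_le_comap (f := algebraMap R T)).1 hITQ)
      refine ⟨Q', hQ', hle, hQ'q, 1, ?_, ?_⟩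
      · have hIQ' : IT ≤ Q' := Ideal.map_le_iff_le_comap.2 (by rw [hQ'q]; exact Ideal.map_le_iff_le_comap.1 hITQ)
        have haI : algebraMap R T a ∈ IT := Ideal.mem_map_of_mem _ (by simpa using ha)
        refine (Ideal.height_le_height_add_one_of_mem (hIQ' haI)).trans ?_
        rw [Nat.cast_one]
        refine add_le_add ?_ le_rfl
        refine (height_map_le (Ideal.span {algebraMap R T a}) IT Q'
          ((Ideal.span_singleton_le_iff_mem _).2 (hIQ' haI)) hIQ' fun Q'' hQ'' h1 h2 => ?_).trans ?_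
        · refine Ideal.map_le_iff_le_comap.2 fun c hc => ?_
          have e : algebraMap R T c * mon 1 a ha = algebraMap R T a * mon 1 c (by simpa using hc) :=
            Subtype.ext (show C c * monomial 1 a = C a * monomial 1 c by
              rw [C_mul_monomial, C_mul_monomial, mul_comm c a])
          have : algebraMap R T c * mon 1 a ha ∈ Q'' := by
            rw [e]
            exact Ideal.mul_mem_right _ _ (h1 (Ideal.mem_span_singleton_self _))
          exact (hQ''.mem_or_mem this).resolve_right fun h => haQ (h2 h)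
        · exact Ideal.height_mono (hPQ ▸ Ideal.map_mono hle)
      · rw [Nat.cast_one, Cardinal.one_le_iff_ne_zero]
        intro h0
        obtain ⟨c, hc, hc0⟩ := Submodule.exists_mem_ne_zero_of_ne_bot hI
        haveI := (trdeg_eq_zero_iff.1 h0 : Algebra.IsAlgebraic R T)
        have halg := (Algebra.IsAlgebraic.isAlgebraic (R := R) (mon 1 c (by simpa using hc))).algHom T.val
        refine Polynomial.transcendental (monomial 1 c) ?_ ?_ halg
        · rw [natDegree_monomial_eq 1 hc0]; exact one_ne_zero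
        · rw [Polynomial.leadingCoeff_monomial]
          exact mem_nonZeroDivisors_of_ne_zero hc0
  haveI hover : Q'.LiesOver q := ⟨hQ'q.symm⟩
  obtain ⟨t, ht, htl⟩ := trdeg_le_fibre huc Q' q
  have heq := Groth.Agent.S0555.result R huc T q Q'
  obtain ⟨a, ha⟩ := exists_nat Q'
  rw [ha, hb] at heq
  obtain ⟨n, hn, hab⟩ := eq_add_of_cardinal heq ht
  rw [hn, Nat.cast_le] at hstep
  have h1 : (b : ℕ∞) ≤ (Ideal.height (R := reesAlgebra I ⧸ I.map (algebraMap R (reesAlgebra I))) P.asIdeal) + t := by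
    have h2 := hstep.1
    rw [ha] at h2
    rcases eq_or_ne (Ideal.height (R := reesAlgebra I ⧸ I.map (algebraMap R (reesAlgebra I))) P.asIdeal) ⊤ with h3 | h3
    · simp [h3]
    obtain ⟨c, hc⟩ := ENat.ne_top_iff_exists.1 h3
    rw [← hc] at h2 ⊢
    have h4 := hstep.2
    norm_cast at h2 ⊢
    omega
  rw [hb]
  refine le_trans (WithBot.coe_le_coe.2 h1) ?_
  rw [WithBot.coe_add]
  exact add_le_add le_rfl htl

theorem height_add_le {A : Type u} [CommRing A] [IsNoetherianRing A] (J p : Ideal A) [p.IsPrime] (hJ : J ≤ p) :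
    (p.map (Ideal.Quotient.mk J)).height + J.height ≤ p.height := by
  haveI := Ideal.isPrime_map_quotientMk_of_isPrime hJ
  let P : PrimeSpectrum (A ⧸ J) := ⟨p.map (Ideal.Quotient.mk J), inferInstance⟩
  obtain ⟨h, hh⟩ := exists_nat (p.map (Ideal.Quotient.mk J))
  obtain ⟨s, hs, hlen⟩ := Order.exists_series_of_le_height P (n := h)
    (by rw [← PrimeSpectrum.height_eq_orderHeight]; exact hh.ge)
  let s' : LTSeries (PrimeSpectrum A) := s.map (PrimeSpectrum.comap (Ideal.Quotient.mk J))
    fun x y hxy => lt_of_le_of_ne (Ideal.comap_mono hxy.le) fun he => hxy.ne (PrimeSpectrum.ext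
      (Ideal.comap_injective_of_surjective _ Ideal.Quotient.mk_surjective (congrArg PrimeSpectrum.asIdeal he)))
  have hJh : J.height ≤ Order.height s'.head := by
    rw [← PrimeSpectrum.height_eq_orderHeight]
    refine Ideal.height_mono ?_
    rw [LTSeries.head_map]
    exact Ideal.mk_ker.symm.le.trans (Ideal.comap_mono bot_le)
  obtain ⟨j, hj⟩ := exists_nat s'.head.asIdeal
  obtain ⟨t, ht, htlen⟩ := Order.exists_series_of_le_height s'.head (n := j)
    (by rw [← PrimeSpectrum.height_eq_orderHeight]; exact hj.ge)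
  have hlast : s'.last.asIdeal = p := by
    rw [LTSeries.last_map, hs]
    show Ideal.comap _ (Ideal.map _ p) = p
    rw [Ideal.comap_map_of_surjective _ Ideal.Quotient.mk_surjective, ← RingHom.ker_eq_comap_bot,
      Ideal.mk_ker, sup_eq_left.2 hJ]
  have := Order.length_le_height (p := t.smash s' ht) (x := s'.last) (le_of_eq (RelSeries.last_smash ..))
  rw [← PrimeSpectrum.height_eq_orderHeight, hlast, RelSeries.smash_length, htlen,
    LTSeries.map_length, hlen, Nat.cast_add] at this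
  rw [hh, add_comm]
  refine le_trans (add_le_add ?_ le_rfl) this
  rw [← PrimeSpectrum.height_eq_orderHeight, hj] at hJh
  exact hJh

end Groth.Agent.Lib.ConormalDepth45
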