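import Groth.Agent.S0555
import Mathlib.RingTheory.ReesAlgebra
import Mathlib.RingTheory.Ideal.KrullsHeightTheorem
import Mathlib.RingTheory.Nakayama
import Mathlib.RingTheory.AlgebraicIndependent.Transcendental
import Mathlib.RingTheory.AlgebraicIndependent.TranscendenceBasis
import Mathlib.RingTheory.Polynomial.Basic

/-!
# Heights of primes of the associated graded ring
-/

universe u

open Polynomial

namespace Groth.Agent.Lib.ConormalDepth45

theorem height_map_le {A : Type u} [CommRing A] (J J' Q : Ideal A) [Q.IsPrime]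
    (h : J ≤ Q) (h' : J' ≤ Q) (hJ : ∀ Q' : Ideal A, Q'.IsPrime → J ≤ Q' → Q' ≤ Q → J' ≤ Q') :
    (Q.map (Ideal.Quotient.mk J)).height ≤ (Q.map (Ideal.Quotient.mk J')).height := by
  haveI := Ideal.isPrime_map_quotientMk_of_isPrime h
  haveI := Ideal.isPrime_map_quotientMk_of_isPrime h'
  rw [show Ideal.map (Ideal.Quotient.mk J) Q = PrimeSpectrum.asIdeal ⟨_, ‹(Q.map (Ideal.Quotient.mk J)).IsPrime›⟩ from rfl,
    show Ideal.map (Ideal.Quotient.mk J') Q = PrimeSpectrum.asIdeal ⟨_, ‹(Q.map (Ideal.Quotient.mk J')).IsPrime›⟩ from rfl,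
    PrimeSpectrum.height_eq_orderHeight, PrimeSpectrum.height_eq_orderHeight]
  refine Order.height_le fun s hs => ?_
  let down : PrimeSpectrum (A ⧸ J) → PrimeSpectrum A := PrimeSpectrum.comap (Ideal.Quotient.mk J)
  have hJle : ∀ i, J ≤ (down (s i)).asIdeal := fun i => (Ideal.mk_ker (I := J)).symm.le.trans
    (Ideal.comap_mono bot_le)
  have hQle : ∀ i, (down (s i)).asIdeal ≤ Q := fun i => by
    have h1 : (s i).asIdeal ≤ Q.map (Ideal.Quotient.mk J) := by
      have := s.monotone (Fin.le_last i)
      rw [show s (Fin.last _) = _ from hs] at this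
      exact this
    refine (Ideal.comap_mono h1).trans ?_
    rw [Ideal.comap_map_of_surjective _ Ideal.Quotient.mk_surjective, ← RingHom.ker_eq_comap_bot,
      Ideal.mk_ker]
    exact sup_le le_rfl h
  have hJ' : ∀ i, J' ≤ (down (s i)).asIdeal := fun i => hJ _ (down (s i)).2 (hJle i) (hQle i)
  let up : ∀ i, PrimeSpectrum (A ⧸ J') := fun i =>
    ⟨(down (s i)).asIdeal.map (Ideal.Quotient.mk J'), Ideal.isPrime_map_quotientMk_of_isPrime (hJ' i)⟩
  have hcomap : ∀ i, (up i).asIdeal.comap (Ideal.Quotient.mk J') = (down (s i)).asIdeal := fun i => by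
    rw [Ideal.comap_map_of_surjective _ Ideal.Quotient.mk_surjective, ← RingHom.ker_eq_comap_bot,
      Ideal.mk_ker, sup_eq_left]
    exact hJ' i
  have hmono : StrictMono up := by
    intro i j hij
    refine lt_of_le_of_ne (Ideal.map_mono (Ideal.comap_mono (s.monotone hij.le))) fun he => ?_
    have h1 := congrArg (fun z : PrimeSpectrum (A ⧸ J') => z.asIdeal.comap (Ideal.Quotient.mk J')) he
    simp only [hcomap] at h1
    exact (s.strictMono hij).ne (PrimeSpectrum.ext
      (Ideal.comap_injective_of_surjective _ Ideal.Quotient.mk_surjective h1))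
  refine Order.length_le_height (p := LTSeries.mk s.length up hmono) (le_of_eq ?_)
  refine PrimeSpectrum.ext ?_
  show (up (Fin.last _)).asIdeal = _
  show Ideal.map _ ((s (Fin.last _)).asIdeal.comap (Ideal.Quotient.mk J)) = _
  rw [show s (Fin.last _) = _ from hs]
  show Ideal.map _ (Ideal.comap _ (Ideal.map _ Q)) = _
  rw [Ideal.comap_map_of_surjective _ Ideal.Quotient.mk_surjective, ← RingHom.ker_eq_comap_bot,
    Ideal.mk_ker, sup_eq_left.2 h]

variable {R : Type u} [CommRing R] {I : Ideal R}

/-- The element `a tⁱ`. -/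
noncomputable def mon (i : ℕ) (a : R) (ha : a ∈ I ^ i) : reesAlgebra I :=
  ⟨monomial i a, reesAlgebra.monomial_mem.2 ha⟩

theorem mon_zero (a : R) (h : a ∈ I ^ 0) : mon 0 a h = algebraMap R (reesAlgebra I) a :=
  Subtype.ext (show monomial 0 a = C a by simp)

theorem sum_mon (f : reesAlgebra I) :
    f = ∑ i ∈ (f : R[X]).support, mon i ((f : R[X]).coeff i) (f.2 i) := by
  refine Subtype.ext ?_
  rw [AddSubmonoidClass.coe_finset_sum]
  exact (f : R[X]).as_sum_support

/-- `f(t) ↦ f(t X)`. -/
noncomputable def split : reesAlgebra I →+* (reesAlgebra I)[X] where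
  toFun f := ∑ i ∈ (f : R[X]).support, monomial i (mon i ((f : R[X]).coeff i) (f.2 i))
  map_zero' := by simp
  map_one' := by
    apply map_injective (reesAlgebra I).val.toRingHom Subtype.coe_injective
    ext i : 1
    simp only [Polynomial.map_sum, Polynomial.map_monomial, finset_sum_coeff, coeff_monomial,
      Polynomial.map_one, coeff_one]
    rw [Finset.sum_ite_eq']
    show (if i ∈ (1 : R[X]).support then monomial i ((1 : R[X]).coeff i) else 0) = _
    by_cases h : i = 0
    · subst h
      simp +contextual [coeff_one, mem_support_iff]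
      exact fun h => by simpa using (congrArg C h).symm
    · simp [h, coeff_one, mem_support_iff]
  map_add' f g := by
    apply map_injective (reesAlgebra I).val.toRingHom Subtype.coe_injective
    ext i : 1
    simp only [Polynomial.map_add, Polynomial.map_sum, Polynomial.map_monomial, coeff_add,
      finset_sum_coeff, coeff_monomial, Finset.sum_ite_eq']
    have h : ∀ w : reesAlgebra I, (if i ∈ (w : R[X]).support then
        ((mon i ((w : R[X]).coeff i) (w.2 i) : reesAlgebra I) : R[X]) else 0) =
          monomial i ((w : R[X]).coeff i) := fun w => by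
      split_ifs with h
      · rfl
      · rw [notMem_support_iff.1 h, map_zero]
    exact (h (f + g)).trans (by rw [Subalgebra.coe_add, coeff_add, map_add]; exact (congrArg₂ (· + ·) (h f) (h g)).symm)
  map_mul' f g := by
    apply map_injective (reesAlgebra I).val.toRingHom Subtype.coe_injective
    have key : ∀ w : reesAlgebra I, Polynomial.map (reesAlgebra I).val.toRingHom
        (∑ i ∈ (w : R[X]).support, monomial i (mon i ((w : R[X]).coeff i) (w.2 i))) =
          (w : R[X]).eval₂ (C.comp C) (C Polynomial.X * Polynomial.X) := fun w => by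
      rw [Polynomial.map_sum, eval₂_eq_sum, Polynomial.sum]
      refine Finset.sum_congr rfl fun i _ => ?_
      rw [Polynomial.map_monomial, mul_pow, ← C_pow, RingHom.comp_apply, ← mul_assoc, ← map_mul,
        C_mul_X_pow_eq_monomial, C_mul_X_pow_eq_monomial]
      rfl
    rw [Polynomial.map_mul, key, key, key, Subalgebra.coe_mul, eval₂_mul]

theorem coeff_split (f : reesAlgebra I) (i : ℕ) :
    (split f).coeff i = mon i ((f : R[X]).coeff i) (f.2 i) := by
  simp only [split, RingHom.coe_mk, MonoidHom.coe_mk, OneHom.coe_mk, finset_sum_coeff, coeff_monomial,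
    Finset.sum_ite_eq']
  split_ifs with h
  · rfl
  · exact Subtype.ext (by simp [mon, notMem_support_iff.1 h])

variable (Q : Ideal (reesAlgebra I))

/-- The homogeneous core of `Q`. -/
noncomputable def core : Ideal (reesAlgebra I) :=
  RingHom.ker ((mapRingHom (Ideal.Quotient.mk Q)).comp split)

instance core_isPrime [Q.IsPrime] : (core Q).IsPrime := RingHom.ker_isPrime _

theorem mem_core {f : reesAlgebra I} :
    f ∈ core Q ↔ ∀ i, mon i ((f : R[X]).coeff i) (f.2 i) ∈ Q := by
  simp only [core, RingHom.mem_ker, RingHom.comp_apply, Polynomial.ext_iff, coe_mapRingHom, coeff_map,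
    coeff_zero, coeff_split, Ideal.Quotient.eq_zero_iff_mem]

theorem core_le : core Q ≤ Q := fun f hf => by
  rw [sum_mon f]
  exact sum_mem fun i _ => (mem_core Q).1 hf i

theorem core_comap : (core Q).comap (algebraMap R (reesAlgebra I)) = Q.comap (algebraMap R (reesAlgebra I)) := by
  ext a
  refine ⟨fun h => core_le Q h, fun h => (mem_core Q).2 fun i => ?_⟩
  cases i with
  | zero =>
    rw [mon_zero]
    simpa using h
  | succ i =>
    convert zero_mem Q
    exact Subtype.ext (by simp [mon])

theorem coeff_zero_mem {f : reesAlgebra I} (hf : f ∈ core Q) :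
    (f : R[X]).coeff 0 ∈ Q.comap (algebraMap R (reesAlgebra I)) := by
  have := (mem_core Q).1 hf 0
  rwa [mon_zero] at this

/-- Some `a t` avoids a prime over `q` lying below `Q`. -/
theorem exists_below [IsDomain R] [IsNoetherianRing R] (hI : I ≠ ⊥)
    [Q.IsPrime] (hQ : I ≤ Q.comap (algebraMap R (reesAlgebra I))) :
    ∃ Q' : Ideal (reesAlgebra I), Q'.IsPrime ∧ Q' ≤ Q ∧
      Q'.comap (algebraMap R (reesAlgebra I)) = Q.comap (algebraMap R (reesAlgebra I)) ∧
      ∃ (a : R) (ha : a ∈ I ^ 1), mon 1 a ha ∉ Q' := by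
  let T := reesAlgebra I
  let q := Q.comap (algebraMap R T)
  haveI hqp : q.IsPrime := Ideal.IsPrime.comap _
  by_cases hex : ∃ (a : R) (ha : a ∈ I ^ 1), mon 1 a ha ∉ Q
  · exact ⟨Q, inferInstance, le_rfl, rfl, hex⟩
  push Not at hex
  have hpos : ∀ (i : ℕ) (c : R) (hc : c ∈ I ^ (i + 1)), mon (i + 1) c hc ∈ Q := by
    intro i c hc
    have hc' : c ∈ I • (I ^ i : Ideal R) := by rw [smul_eq_mul, ← pow_succ']; exact hc
    have hmem : ∀ {z}, z ∈ I • (I ^ i : Ideal R) → z ∈ I ^ (i + 1) := fun h => by
      rwa [pow_succ', ← smul_eq_mul]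
    refine Submodule.smul_induction_on' (p := fun z hz => mon (i + 1) z (hmem hz) ∈ Q) hc'
      (fun a ha b hb => ?_) (fun y _ z _ hy hz => ?_)
    · have e : mon (i + 1) (a • b) (hmem (Submodule.smul_mem_smul ha hb)) =
          mon 1 a (by rwa [pow_one]) * mon i b hb :=
        Subtype.ext (by simp [mon, monomial_mul_monomial, add_comm 1 i])
      rw [e]
      exact Ideal.mul_mem_right _ _ (hex a _)
    · convert add_mem hy hz using 1
      exact Subtype.ext (by simp [mon])
  -- a prime over `q` avoiding some `a t`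
  obtain ⟨a, ha, Q₁, hQ₁, hqQ₁, hQ₁q, haQ₁⟩ : ∃ (a : R) (ha : a ∈ I ^ 1) (Q₁ : Ideal T), Q₁.IsPrime ∧
      q ≤ Q₁.comap (algebraMap R T) ∧ Q₁.comap (algebraMap R T) ≤ q ∧ mon 1 a ha ∉ Q₁ := by
    by_contra hc
    push Not at hc
    let K : Ideal T :=
      { carrier := {z | ∃ s ∉ q, algebraMap R T s * z ∈ q.map (algebraMap R T)}
        zero_mem' := ⟨1, fun h => (inferInstance : q.IsPrime).ne_top ((Ideal.eq_top_iff_one q).2 h), by simp⟩
        add_mem' := by
          rintro y z ⟨s, hs, hy⟩ ⟨s', hs', hz⟩
          refine ⟨s * s', fun h => ((inferInstance : q.IsPrime).mem_or_mem h).elim hs hs', ?_⟩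
          rw [show algebraMap R T (s * s') * (y + z) = algebraMap R T s' * (algebraMap R T s * y) +
            algebraMap R T s * (algebraMap R T s' * z) by rw [map_mul]; ring]
          exact add_mem (Ideal.mul_mem_left _ _ hy) (Ideal.mul_mem_left _ _ hz)
        smul_mem' := by
          rintro b z ⟨s, hs, hz⟩
          refine ⟨s, hs, ?_⟩
          rw [smul_eq_mul, mul_left_comm]
          exact Ideal.mul_mem_left _ _ hz }
    let L : Ideal T := Ideal.span (Set.range fun a : ↥(I ^ 1 : Ideal R) => mon 1 a.1 a.2)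
    have hL : L ≤ K.radical := Ideal.span_le.2 (by
      rintro _ ⟨⟨a, ha⟩, rfl⟩
      let M : Submonoid T := Submonoid.map (algebraMap R T) q.primeCompl ⊔ Submonoid.powers (mon 1 a ha)
      by_cases hdisj : Disjoint ((q.map (algebraMap R T) : Ideal T) : Set T) M
      · obtain ⟨Q₁, hQ₁, hle, hdis⟩ := Ideal.exists_le_prime_disjoint _ M hdisj
        exfalso
        refine Set.disjoint_left.1 hdis (hc a ha Q₁ hQ₁ (Ideal.map_le_iff_le_comap.1 hle) fun r hr => ?_)
          (Submonoid.mem_sup_right (Submonoid.mem_powers _))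
        by_contra hrq
        exact Set.disjoint_left.1 hdis hr
          (Submonoid.mem_sup_left (Submonoid.mem_map_of_mem _ hrq))
      · obtain ⟨z, hz, hzM⟩ := Set.not_disjoint_iff.1 hdisj
        obtain ⟨_, ⟨s, hs, rfl⟩, _, ⟨m, rfl⟩, rfl⟩ := Submonoid.mem_sup.1 hzM
        exact ⟨m, s, hs, hz⟩)
    obtain ⟨m, hm⟩ := Ideal.exists_pow_le_of_le_radical_of_fg hL (IsNoetherian.noetherian _)
    have hmonL : ∀ (i : ℕ) (c : R) (hc : c ∈ I ^ i), mon i c hc ∈ L ^ i := by
      intro i
      induction i with
      | zero => intro c _; simp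
      | succ i ih =>
        intro c hc
        have hc' : c ∈ I • (I ^ i : Ideal R) := by rw [smul_eq_mul, ← pow_succ']; exact hc
        have hmem : ∀ {z}, z ∈ I • (I ^ i : Ideal R) → z ∈ I ^ (i + 1) := fun h => by
          rwa [pow_succ', ← smul_eq_mul]
        refine Submodule.smul_induction_on' (p := fun z hz => mon (i + 1) z (hmem hz) ∈ L ^ (i + 1)) hc'
          (fun a ha b hb => ?_) (fun y _ z _ hy hz => ?_)
        · have e : mon (i + 1) (a • b) (hmem (Submodule.smul_mem_smul ha hb)) =
              mon 1 a (by rwa [pow_one]) * mon i b hb :=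
            Subtype.ext (by simp [mon, monomial_mul_monomial, add_comm 1 i])
          rw [e, pow_succ']
          exact Ideal.mul_mem_mul (Ideal.subset_span ⟨⟨a, by rwa [pow_one]⟩, rfl⟩) (ih b hb)
        · convert add_mem hy hz using 1
          exact Subtype.ext (by simp [mon])
    have key : ∀ w ∈ q.map (algebraMap R T), ∀ j, ((w : T) : R[X]).coeff j ∈ q * I ^ j := by
      intro w hw
      induction hw using Submodule.span_induction with
      | mem w hw =>
        obtain ⟨c, hc, rfl⟩ := hw
        intro j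
        show (C c).coeff j ∈ _
        rw [coeff_C]
        split_ifs with h0
        · subst h0; simpa using hc
        · exact zero_mem _
      | zero => intro j; simp
      | add y z _ _ hy hz => intro j; simpa using add_mem (hy j) (hz j)
      | smul b w _ ih =>
        intro j
        show ((b : R[X]) * (w : R[X])).coeff j ∈ _
        rw [coeff_mul]
        refine Ideal.sum_mem _ fun x hx => ?_
        rw [← Finset.mem_antidiagonal.1 hx, pow_add, mul_left_comm]
        exact Ideal.mul_mem_mul (b.2 x.1) (ih x.2)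
    let Rq := Localization.AtPrime q
    have hle : (I ^ m).map (algebraMap R Rq) ≤
        IsLocalRing.maximalIdeal Rq • (I ^ m).map (algebraMap R Rq) := by
      refine Ideal.map_le_iff_le_comap.2 fun c hc => ?_
      obtain ⟨s, hs, hsc⟩ := hm (hmonL m c hc)
      have h1 := key _ hsc m
      rw [show ((algebraMap R T s * mon m c hc : T) : R[X]) = C s * monomial m c from rfl,
        coeff_C_mul, coeff_monomial, if_pos rfl] at h1
      have h2 := Ideal.mem_map_of_mem (algebraMap R Rq) h1
      rw [Ideal.map_mul, Localization.AtPrime.map_eq_maximalIdeal, map_mul] at h2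
      exact (Submodule.smul_mem_iff_of_isUnit _ (IsLocalization.map_units Rq (⟨s, hs⟩ : q.primeCompl))).1 h2
    have hbot := Submodule.eq_bot_of_le_smul_of_le_jacobson_bot (IsLocalRing.maximalIdeal Rq) _
      (IsNoetherian.noetherian _) hle (IsLocalRing.jacobson_eq_maximalIdeal ⊥ bot_ne_top).ge
    rw [Ideal.map_eq_bot_iff_of_injective (IsLocalization.injective Rq
      (Ideal.primeCompl_le_nonZeroDivisors q))] at hbot
    exact hI (eq_zero_of_pow_eq_zero hbot)
  refine ⟨core Q₁, inferInstance, fun f hf => ?_, ?_, a, ha, fun h => haQ₁ (core_le _ h)⟩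
  · rw [sum_mon f]
    refine sum_mem fun i _ => ?_
    cases i with
    | zero => rw [mon_zero]; exact hQ₁q (coeff_zero_mem Q₁ hf)
    | succ i => exact hpos i _ _
  · rw [core_comap]
    exact le_antisymm hQ₁q hqQ₁

end Groth.Agent.Lib.ConormalDepth45
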