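import Groth.Agent.S0320
import Groth.Agent.Lib.Depth.Basic
import Mathlib.RingTheory.Ideal.AssociatedPrime.Finiteness
import Mathlib.RingTheory.Regular.IsSMulRegular
import Mathlib.RingTheory.Regular.Flat

/-!
# Regular sequences from the base ring
-/

universe u v

open RingTheory.Sequence Pointwise LocCoh Groth.Agent.Lib.Depth.Basic

namespace Groth.Agent.Lib.ConormalDepth45

variable {A B : Type u} [CommRing A] [CommRing B] [Algebra A B]

theorem exists_regular_from_base [IsNoetherianRing B] (p : Ideal A) (d : ℕ) (M : Type u)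
    [AddCommGroup M] [Module B M] [Module.Finite B M] [Module A M] [IsScalarTower A B M]
    (hne : p.map (algebraMap A B) • (⊤ : Submodule B M) ≠ ⊤)
    (h : (d : ℕ∞) ≤ idealDepth (p.map (algebraMap A B)) M) :
    ∃ rs : List A, rs.length = d ∧ (∀ r ∈ rs, r ∈ p) ∧ IsWeaklyRegular M rs := by
  induction d generalizing M with
  | zero => exact ⟨[], rfl, by simp, IsWeaklyRegular.nil A M⟩
  | succ d ih =>
    obtain ⟨y, hy, hreg, -⟩ := exists_isSMulRegular_of_succ_le hne h
    obtain ⟨x, hx, hxreg⟩ : ∃ x ∈ p, IsSMulRegular M (algebraMap A B x) := by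
      by_contra hc
      push Not at hc
      have hsub : (p : Set A) ⊆ ⋃ P ∈ (associatedPrimes.finite B M).toFinset,
          ((P.comap (algebraMap A B) : Ideal A) : Set A) := by
        intro x hx
        have : algebraMap A B x ∈ {r : B | IsSMulRegular M r}ᶜ := hc x hx
        rw [← biUnion_associatedPrimes_eq_compl_regular B] at this
        simpa using this
      rcases (Ideal.subset_union_prime (f := fun P : Ideal B => P.comap (algebraMap A B)) ⊥ ⊥
        fun P hP _ _ => by
          have : P.IsPrime := IsAssociatedPrime.isPrime ((Set.Finite.mem_toFinset _).1 hP)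
          infer_instance).1 hsub with ⟨P, hP, hle⟩
      have hyP : y ∈ P := Ideal.map_le_iff_le_comap.2 hle hy
      have : y ∈ ⋃ P ∈ associatedPrimes B M, (P : Set B) :=
        Set.mem_biUnion ((Set.Finite.mem_toFinset _).1 hP) hyP
      rw [biUnion_associatedPrimes_eq_compl_regular B] at this
      exact this hreg
    have hd : (d : ℕ∞) ≤ idealDepth (p.map (algebraMap A B)) (QuotSMulTop (algebraMap A B x) M) := by
      have e := Groth.Agent.S0320.result B _ M hne _ (Ideal.mem_map_of_mem _ hx) hxreg
      rw [← e, Nat.cast_succ] at h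
      exact WithTop.le_of_add_le_add_right ENat.one_ne_top h
    have hne' : p.map (algebraMap A B) • (⊤ : Submodule B (QuotSMulTop (algebraMap A B x) M)) ≠ ⊤ := by
      intro he
      apply hne
      rw [← smul_top_map _ ((algebraMap A B x • (⊤ : Submodule B M)).mkQ)
        (Submodule.mkQ_surjective _)] at he
      have he' := congrArg (Submodule.comap ((algebraMap A B x • (⊤ : Submodule B M)).mkQ)) he
      erw [Submodule.comap_map_eq, Submodule.ker_mkQ, Submodule.comap_top] at he'
      rwa [sup_eq_left.2] at he'
      intro z hz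
      obtain ⟨w, -, rfl⟩ := (Submodule.mem_smul_pointwise_iff_exists z _ _).1 hz
      exact Submodule.smul_mem_smul (Ideal.mem_map_of_mem _ hx) Submodule.mem_top
    obtain ⟨rs, hl, hmem, hrs⟩ := ih _ hne' hd
    refine ⟨x :: rs, by simp [hl], by simpa using ⟨hx, hmem⟩, ?_⟩
    rw [← isWeaklyRegular_map_algebraMap_iff B M, List.map_cons, isWeaklyRegular_cons_iff]
    exact ⟨hxreg, (isWeaklyRegular_map_algebraMap_iff B _ rs).2 hrs⟩

/-- Regular sequences pass to retracts. -/
theorem isWeaklyRegular_of_retract {M : Type v} {N : Type v} [AddCommGroup M] [Module A M]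
    [AddCommGroup N] [Module A N] (i : N →ₗ[A] M) (r : M →ₗ[A] N) (hri : r.comp i = LinearMap.id)
    {rs : List A} (h : IsWeaklyRegular M rs) : IsWeaklyRegular N rs := by
  induction rs generalizing M N with
  | nil => exact IsWeaklyRegular.nil A N
  | cons a rs ih =>
    rw [isWeaklyRegular_cons_iff] at h ⊢
    have hinj : Function.Injective i := Function.LeftInverse.injective
      (g := r) fun z => LinearMap.congr_fun hri z
    refine ⟨fun y z hyz => hinj (h.1 ?_), ih (QuotSMulTop.map a i) (QuotSMulTop.map a r) ?_ h.2⟩
    · show a • i y = a • i z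
      rw [← map_smul, ← map_smul]; exact congrArg i hyz
    · rw [← QuotSMulTop.map_comp, hri, QuotSMulTop.map_id]

theorem depth_localized_of_retract [IsNoetherianRing B] (p : Ideal A) [p.IsPrime] {d : ℕ} {N : Type u}
    [AddCommGroup N] [Module A N] (i : N →ₗ[A] B) (r : B →ₗ[A] N) (hri : r.comp i = LinearMap.id)
    (h : (d : ℕ∞) ≤ idealDepth (p.map (algebraMap A B)) B) :
    (d : ℕ∞) ≤ depth (Localization.AtPrime p) (LocalizedModule p.primeCompl N) := by
  let S := Localization.AtPrime p
  let L := LocalizedModule p.primeCompl N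
  let f := LocalizedModule.mkLinearMap p.primeCompl N
  have hmax : ∀ a ∈ p, algebraMap A S a ∈ IsLocalRing.maximalIdeal S := fun a ha =>
    (IsLocalization.AtPrime.to_map_mem_maximal_iff S p a).2 ha
  by_cases htop : p.map (algebraMap A B) • (⊤ : Submodule B B) = ⊤
  · have hA : p • (⊤ : Submodule A B) = ⊤ := (smul_top_eq_top_iff_map p).2 htop
    have hr : Function.Surjective r := fun z => ⟨i z, LinearMap.congr_fun hri z⟩
    have hN : p • (⊤ : Submodule A N) = ⊤ := by
      rw [← smul_top_map p r hr, hA, Submodule.map_top, LinearMap.range_eq_top.2 hr]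
    rw [depth, idealDepth_of_smul_top_eq]
    · exact le_top
    refine top_le_iff.1 fun z _ => ?_
    obtain ⟨⟨n, s⟩, hs⟩ := IsLocalizedModule.surj p.primeCompl f z
    have key : ∀ w ∈ p • (⊤ : Submodule A N), f w ∈ IsLocalRing.maximalIdeal S • (⊤ : Submodule S L) := by
      intro w hw
      induction hw using Submodule.smul_induction_on' with
      | smul a ha w _ =>
        rw [map_smul, ← algebraMap_smul S a (f w)]
        exact Submodule.smul_mem_smul (hmax a ha) Submodule.mem_top
      | add a _ b _ ha hb => rw [map_add]; exact add_mem ha hb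
    have hn := key n (by rw [hN]; exact Submodule.mem_top)
    rw [show f n = _ from hs.symm, Submonoid.smul_def, ← algebraMap_smul S (s : A) z] at hn
    exact (Submodule.smul_mem_iff_of_isUnit _ (IsLocalization.map_units S s)).1 hn
  · obtain ⟨rs, hl, hmem, hrs⟩ := exists_regular_from_base p d B htop h
    have h1 := IsWeaklyRegular.of_isLocalizedModule S p.primeCompl f
      (isWeaklyRegular_of_retract i r hri hrs)
    rw [← hl, ← List.length_map (algebraMap A S)]
    refine length_le_idealDepth h1 fun z hz => ?_
    obtain ⟨a, ha, rfl⟩ := List.mem_map.1 hz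
    exact hmax a (hmem a ha)

end Groth.Agent.Lib.ConormalDepth45
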